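import Mathlib
import Groth.Prelude.Def_W4c2brnrinvarInvFld

/-!
The no-name lemma for fields of invariants of finite groups acting linearly.
-/

set_option autoImplicit false
set_option linter.style.haveILetI false

open IntermediateField

namespace Groth.Agent.InvFldLib

universe u

/-- A linear change of an algebraically independent family is algebraically independent. -/
theorem algIndep_of_span {K : Type*} [Field K] {L : Type*} [CommRing L] [Algebra K L] {ι : Type*}
    [Finite ι] {y t : ι → L} (hy : AlgebraicIndependent K y)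
    (hty : ∀ i, t i ∈ Submodule.span K (Set.range y))
    (hyt : ∀ i, y i ∈ Submodule.span K (Set.range t)) : AlgebraicIndependent K t := by
  classical
  haveI := Fintype.ofFinite ι
  have hsp : Submodule.span K (Set.range t) = Submodule.span K (Set.range y) :=
    le_antisymm (Submodule.span_le.mpr (Set.range_subset_iff.mpr hty))
      (Submodule.span_le.mpr (Set.range_subset_iff.mpr hyt))
  have hlt : LinearIndependent K t := by
    rw [linearIndependent_iff_card_eq_finrank_span, Set.finrank, hsp, finrank_span_eq_card hy.linearIndependent]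
  choose c hc using fun i => (Submodule.mem_span_range_iff_exists_fun K).mp (hty i)
  choose d hd using fun i => (Submodule.mem_span_range_iff_exists_fun K).mp (hyt i)
  let φ : MvPolynomial ι K →ₐ[K] MvPolynomial ι K :=
    MvPolynomial.aeval fun i => ∑ j, c i j • MvPolynomial.X j
  let ψ : MvPolynomial ι K →ₐ[K] MvPolynomial ι K :=
    MvPolynomial.aeval fun i => ∑ j, d i j • MvPolynomial.X j
  have hφ : MvPolynomial.aeval t = (MvPolynomial.aeval y).comp φ := by
    refine MvPolynomial.algHom_ext fun i => ?_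
    simp [φ, map_sum, hc]
  have hψ : ψ.comp φ = AlgHom.id K _ := by
    refine MvPolynomial.algHom_ext fun i => ?_
    have hcoef : ∀ l, ∑ j, c i j * d j l = if i = l then (1 : K) else 0 := by
      have h1 : ∑ l, ((∑ j, c i j * d j l) - if i = l then (1 : K) else 0) • t l = 0 := by
        simp only [sub_smul, Finset.sum_sub_distrib, ite_smul, one_smul, zero_smul,
          Finset.sum_ite_eq, Finset.mem_univ, if_true]
        simp only [Finset.sum_smul, mul_smul]
        rw [Finset.sum_comm]
        simp only [← Finset.smul_sum, hd, hc, sub_self]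
      exact fun l => sub_eq_zero.mp (Fintype.linearIndependent_iff.mp hlt _ h1 l)
    simp only [φ, ψ, AlgHom.comp_apply, MvPolynomial.aeval_X, map_sum, map_smul, Finset.smul_sum,
      smul_smul, AlgHom.id_apply]
    rw [Finset.sum_comm]
    simp only [← Finset.sum_smul, hcoef, ite_smul, one_smul, zero_smul, Finset.sum_ite_eq,
      Finset.mem_univ, if_true]
  rw [algebraicIndependent_iff_injective_aeval, hφ, AlgHom.coe_comp]
  refine (algebraicIndependent_iff_injective_aeval.mp hy).comp ?_
  exact Function.LeftInverse.injective (g := ψ) fun p => AlgHom.congr_fun hψ p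

section
variable {k L : Type u} [Field k] [Field L] [Algebra k L]

/-- Invariant vectors span (Speiser): `y_j` lies in the span of the invariant combinations. -/
theorem mem_span_invariant (K : IntermediateField k L) (G : Subgroup (L ≃ₐ[k] L)) [Fintype G]
    (hK : ∀ σ ∈ G, ∀ a ∈ K, σ a ∈ K) (hfaith : ∀ σ ∈ G, (∀ a ∈ K, σ a = a) → σ = 1) (v : L) :
    v ∈ Submodule.span K (Set.range fun a : K => ∑ σ : G, (σ : L ≃ₐ[k] L) ((a : L) * v)) := by
  classical
  by_contra hv
  obtain ⟨lam, hlam, hmap⟩ := Submodule.exists_dual_map_eq_bot_of_notMem hv inferInstance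
  let χ : G → K →* K := fun σ =>
    { toFun := fun a => ⟨(σ : L ≃ₐ[k] L) a, hK _ σ.2 _ a.2⟩
      map_one' := Subtype.ext (map_one _)
      map_mul' := fun a b => Subtype.ext (map_mul _ _ _) }
  have hχ : Function.Injective χ := by
    intro σ τ h
    have h1 : ((τ⁻¹ * σ : G) : L ≃ₐ[k] L) = 1 := hfaith _ (τ⁻¹ * σ : G).2 fun a ha => by
      have h2 := congrArg (fun f : K →* K => ((f ⟨a, ha⟩ : K) : L)) h
      change (σ : L ≃ₐ[k] L) a = (τ : L ≃ₐ[k] L) a at h2
      rw [Subgroup.coe_mul, Subgroup.coe_inv, AlgEquiv.mul_apply, h2]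
      exact (τ : L ≃ₐ[k] L).symm_apply_apply a
    exact (inv_mul_eq_one.mp (Subtype.ext h1)).symm
  have hind := (linearIndependent_monoidHom K K).comp χ hχ
  have h0 := Fintype.linearIndependent_iff.mp hind (fun σ => lam ((σ : L ≃ₐ[k] L) v)) (by
    funext a
    have h2 : lam (∑ σ : G, (σ : L ≃ₐ[k] L) ((a : L) * v)) = 0 := by
      have := Submodule.mem_map_of_mem (f := lam)
        (show (∑ σ : G, (σ : L ≃ₐ[k] L) ((a : L) * v)) ∈ Submodule.span K
          (Set.range fun a : K => ∑ σ : G, (σ : L ≃ₐ[k] L) ((a : L) * v)) from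
          Submodule.subset_span ⟨a, rfl⟩)
      rwa [hmap, Submodule.mem_bot] at this
    rw [map_sum] at h2
    simp only [Finset.sum_apply, Pi.smul_apply, Function.comp_apply, Pi.zero_apply, smul_eq_mul]
    rw [← h2]
    refine Finset.sum_congr rfl fun σ _ => ?_
    rw [map_mul, show (σ : L ≃ₐ[k] L) a * (σ : L ≃ₐ[k] L) v = χ σ a • (σ : L ≃ₐ[k] L) v from rfl,
      map_smul, smul_eq_mul, mul_comm]) 1
  exact hlam h0

/-- The no-name lemma. -/
theorem exists_invariant_generators (K : IntermediateField k L) (G : Subgroup (L ≃ₐ[k] L))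
    [Finite G] (hK : ∀ σ ∈ G, ∀ a ∈ K, σ a ∈ K)
    (hfaith : ∀ σ ∈ G, (∀ a ∈ K, σ a = a) → σ = 1) {m : ℕ} (y : Fin m → L)
    (hy : AlgebraicIndependent K y)
    (hyG : ∀ σ ∈ G, ∀ j, σ (y j) ∈ Submodule.span K (Set.range y))
    (htop : IntermediateField.adjoin k ((K : Set L) ∪ Set.range y) = ⊤)
    (F : Type u) [Field F] [Algebra F L]
    (hF : Set.range (algebraMap F L) = (K : Set L) ∩ (fixedField G : Set L)) :
    ∃ t : Fin m → L, AlgebraicIndependent F t ∧
      (IntermediateField.adjoin F (Set.range t) : Set L) = fixedField G := by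
  classical
  haveI := Fintype.ofFinite G
  let S : Set L := Set.range fun p : K × Fin m => ∑ σ : G, (σ : L ≃ₐ[k] L) ((p.1 : L) * y p.2)
  have hSfix : ∀ v ∈ S, ∀ σ ∈ G, σ v = v := by
    rintro _ ⟨p, rfl⟩ σ hσ
    rw [map_sum]
    exact Fintype.sum_equiv (Equiv.mulLeft (⟨σ, hσ⟩ : G)) _ _ fun τ => rfl
  have hSspan : Submodule.span K S = Submodule.span K (Set.range y) := by
    refine le_antisymm (Submodule.span_le.mpr ?_) (Submodule.span_le.mpr ?_)
    · rintro _ ⟨p, rfl⟩
      refine Submodule.sum_mem _ fun σ _ => ?_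
      rw [map_mul]
      exact Submodule.smul_mem _ (⟨(σ : L ≃ₐ[k] L) p.1, hK _ σ.2 _ p.1.2⟩ : K) (hyG _ σ.2 p.2)
    · rintro _ ⟨j, rfl⟩
      refine Submodule.span_mono ?_ (mem_span_invariant K G hK hfaith (y j))
      rintro _ ⟨a, rfl⟩
      exact ⟨(a, j), rfl⟩
  obtain ⟨b, hbS, hbspan, hbli⟩ := exists_linearIndependent K S
  have hylin := hy.linearIndependent
  let bb : Module.Basis b K (Submodule.span K (Set.range y)) :=
    (Module.Basis.span hbli).map (LinearEquiv.ofEq _ _ (by rw [Subtype.range_coe, hbspan, hSspan]))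
  let e : Fin m ≃ b := (Module.Basis.span hylin).indexEquiv bb
  let t : Fin m → L := fun i => (e i : L)
  have htrange : Set.range t = b := by
    simp only [t]
    exact (e.surjective.range_comp (fun x : b => (x : L))).trans Subtype.range_coe
  have htfix : ∀ i, ∀ σ ∈ G, σ (t i) = t i := fun i => hSfix _ (hbS (e i).2)
  have htK : AlgebraicIndependent K t := by
    refine algIndep_of_span hy (fun i => ?_) fun i => ?_
    · rw [← hSspan]; exact Submodule.subset_span (hbS (e i).2)
    · rw [htrange, hbspan, hSspan]; exact Submodule.subset_span ⟨i, rfl⟩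
  have hFK : ∀ f : F, algebraMap F L f ∈ K ∧ algebraMap F L f ∈ fixedField G := fun f => by
    have h : algebraMap F L f ∈ Set.range (algebraMap F L) := ⟨f, rfl⟩
    rw [hF] at h
    exact h
  let φ : F →+* K := (algebraMap F L).codRestrict K.toSubfield fun f => (hFK f).1
  have htF : AlgebraicIndependent F t := by
    rw [algebraicIndependent_iff_injective_aeval]
    have heq : ∀ P : MvPolynomial (Fin m) F,
        MvPolynomial.aeval t P = MvPolynomial.aeval t (MvPolynomial.map φ P) := fun P => by
      rw [MvPolynomial.aeval_def, MvPolynomial.aeval_def, MvPolynomial.eval₂_map]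
      rfl
    intro P Q h
    rw [heq P, heq Q] at h
    exact MvPolynomial.map_injective φ φ.injective (algebraicIndependent_iff_injective_aeval.mp htK h)
  refine ⟨t, htF, ?_⟩
  refine Set.Subset.antisymm ?_ ?_
  · intro z hz
    induction hz using IntermediateField.adjoin_induction with
    | mem x hx => obtain ⟨i, rfl⟩ := hx; exact (mem_fixedField_iff _ _).mpr (htfix i)
    | algebraMap f => exact (hFK f).2
    | add x y _ _ hx hy => exact add_mem hx hy
    | inv x _ hx => exact inv_mem hx
    | mul x y _ _ hx hy => exact mul_mem hx hy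
  have hgen : IntermediateField.adjoin K (Set.range t) = ⊤ := by
    rw [eq_top_iff]
    intro z _
    have hz : z ∈ IntermediateField.adjoin k ((K : Set L) ∪ Set.range y) := htop ▸ mem_top
    refine (IntermediateField.adjoin_le_iff (T := (IntermediateField.adjoin K (Set.range t)).restrictScalars k)).mpr ?_ hz
    rintro w (hw | ⟨j, rfl⟩)
    · exact IntermediateField.algebraMap_mem _ (⟨w, hw⟩ : K)
    · have hw : y j ∈ Submodule.span K (Set.range t) := by
        rw [htrange, hbspan, hSspan]; exact Submodule.subset_span ⟨j, rfl⟩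
      exact IntermediateField.algebra_adjoin_le_adjoin K _ (Algebra.span_le_adjoin K _ hw)
  let χ : G → K →+* K := fun σ =>
    ((σ : L ≃ₐ[k] L).toRingEquiv.toRingHom.comp K.val.toRingHom).codRestrict K.toSubfield
      fun a => hK _ σ.2 _ a.2
  have hσP : ∀ (σ : G) (P : MvPolynomial (Fin m) K),
      (σ : L ≃ₐ[k] L) (MvPolynomial.aeval t P) = MvPolynomial.aeval t (MvPolynomial.map (χ σ) P) := by
    intro σ P
    induction P using MvPolynomial.induction_on with
    | C a => rw [MvPolynomial.map_C, MvPolynomial.aeval_C, MvPolynomial.aeval_C]; rfl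
    | add p q hp hq => simp only [map_add, hp, hq]
    | mul_X p i hp => simp only [map_mul, hp, MvPolynomial.map_X, MvPolynomial.aeval_X, htfix i _ σ.2]
  have key : ∀ P : MvPolynomial (Fin m) K,
      (∀ σ : G, (σ : L ≃ₐ[k] L) (MvPolynomial.aeval t P) = MvPolynomial.aeval t P) →
      MvPolynomial.aeval t P ∈ IntermediateField.adjoin F (Set.range t) := by
    intro P hP
    have hcoef : ∀ s, ∃ f : F, algebraMap F L f = ((MvPolynomial.coeff s P : K) : L) := by
      intro s
      have h : ((MvPolynomial.coeff s P : K) : L) ∈ (K : Set L) ∩ (fixedField G : Set L) := by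
        refine ⟨(MvPolynomial.coeff s P).2, (mem_fixedField_iff _ _).mpr fun σ hσ => ?_⟩
        have h1 : MvPolynomial.map (χ ⟨σ, hσ⟩) P = P :=
          algebraicIndependent_iff_injective_aeval.mp htK ((hσP ⟨σ, hσ⟩ P).symm.trans (hP ⟨σ, hσ⟩))
        have h2 := congrArg (MvPolynomial.coeff s) h1
        rw [MvPolynomial.coeff_map] at h2
        exact congrArg Subtype.val h2
      rw [← hF] at h
      exact h
    rw [P.as_sum, map_sum]
    refine sum_mem fun s _ => ?_
    rw [MvPolynomial.aeval_monomial]
    obtain ⟨f, hf⟩ := hcoef s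
    refine mul_mem ?_ (prod_mem fun i _ => pow_mem (subset_adjoin F _ (Set.mem_range_self i)) _)
    change ((MvPolynomial.coeff s P : K) : L) ∈ _
    rw [← hf]
    exact IntermediateField.algebraMap_mem _ f
  intro z hz
  have hz' : ∀ σ : G, (σ : L ≃ₐ[k] L) z = z := fun σ => (mem_fixedField_iff _ _).mp hz _ σ.2
  have hzt : z ∈ IntermediateField.adjoin K (Set.range t) := hgen ▸ mem_top
  obtain ⟨A, B, hzeq⟩ := (IntermediateField.mem_adjoin_range_iff (F := K) (i := t) z).mp hzt
  by_cases hB : MvPolynomial.aeval t B = 0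
  · rw [hB, div_zero] at hzeq
    rw [hzeq]
    exact zero_mem _
  let N : MvPolynomial (Fin m) K := ∏ σ : G, MvPolynomial.map (χ σ) B
  let M : MvPolynomial (Fin m) K := A * ∏ σ ∈ (Finset.univ.erase (1 : G)), MvPolynomial.map (χ σ) B
  have hNeq : MvPolynomial.aeval t N = ∏ σ : G, (σ : L ≃ₐ[k] L) (MvPolynomial.aeval t B) := by
    simp only [N, map_prod, hσP]
  have hNfix : ∀ σ : G, (σ : L ≃ₐ[k] L) (MvPolynomial.aeval t N) = MvPolynomial.aeval t N := by
    intro σ
    rw [hNeq, map_prod]
    exact Fintype.prod_equiv (Equiv.mulLeft σ) _ _ fun τ => rfl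
  have hN0 : MvPolynomial.aeval t N ≠ 0 := by
    rw [hNeq, Finset.prod_ne_zero_iff]
    exact fun σ _ => (map_ne_zero _).mpr hB
  have hM : MvPolynomial.aeval t M = z * MvPolynomial.aeval t N := by
    rw [hNeq, ← Finset.mul_prod_erase _ _ (Finset.mem_univ (1 : G)), ← mul_assoc]
    simp only [M, map_mul, map_prod, hσP, OneMemClass.coe_one, AlgEquiv.one_apply]
    rw [hzeq, div_mul_cancel₀ _ hB]
  have hMfix : ∀ σ : G, (σ : L ≃ₐ[k] L) (MvPolynomial.aeval t M) = MvPolynomial.aeval t M := by
    intro σ
    rw [hM, map_mul, hz' σ, hNfix σ]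
  have := div_mem (key M hMfix) (key N hNfix)
  rwa [hM, mul_div_assoc, div_self hN0, mul_one] at this

end

end Groth.Agent.InvFldLib
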