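import Mathlib
import Groth.Prelude.Def_W4c2brnrinvarInvFld
import Groth.Agent.InvFldLib.NoName

/-!
Rational function fields: generators, homomorphisms, and stable equivalence of invariant fields.
-/

set_option autoImplicit false
set_option linter.style.haveILetI false

open IntermediateField

namespace Groth.Agent.InvFldLib

universe u

variable {k : Type u} [Field k]

theorem adjoin_X_eq_top (σ : Type) :
    IntermediateField.adjoin k (Set.range (InvFld.X : σ → InvFld.Fld σ k)) = ⊤ := by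
  rw [eq_top_iff]
  intro z _
  obtain ⟨a, b, -, rfl⟩ := IsFractionRing.div_surjective (A := MvPolynomial σ k) z
  have h : ∀ p : MvPolynomial σ k, algebraMap (MvPolynomial σ k) (InvFld.Fld σ k) p ∈
      IntermediateField.adjoin k (Set.range (InvFld.X : σ → InvFld.Fld σ k)) := by
    intro p
    induction p using MvPolynomial.induction_on with
    | C a => exact IntermediateField.algebraMap_mem _ a
    | add p q hp hq => rw [map_add]; exact add_mem hp hq
    | mul_X p i hp => rw [map_mul]; exact mul_mem hp (subset_adjoin k _ ⟨i, rfl⟩)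
  exact div_mem (h a) (h b)

theorem algHom_ext_X {σ : Type} {E : Type u} [Field E] [Algebra k E]
    {f g : InvFld.Fld σ k →ₐ[k] E} (h : ∀ i, f (InvFld.X i) = g (InvFld.X i)) : f = g := by
  refine IsLocalization.algHom_ext (nonZeroDivisors (MvPolynomial σ k)) (MvPolynomial.algHom_ext fun i => ?_)
  exact h i

theorem algebraicIndependent_X (σ : Type) :
    AlgebraicIndependent k (InvFld.X : σ → InvFld.Fld σ k) := by
  rw [algebraicIndependent_iff_injective_aeval]
  have h : MvPolynomial.aeval (InvFld.X : σ → InvFld.Fld σ k) =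
      IsScalarTower.toAlgHom k (MvPolynomial σ k) (InvFld.Fld σ k) :=
    MvPolynomial.algHom_ext fun i => by simp [InvFld.X]
  rw [h]
  exact IsFractionRing.injective (MvPolynomial σ k) (InvFld.Fld σ k)

/-- The homomorphism out of a rational function field sending the variables to an algebraically
independent family. -/
noncomputable def fldHom {σ : Type} {E : Type u} [Field E] [Algebra k E] (v : σ → E)
    (hv : AlgebraicIndependent k v) : InvFld.Fld σ k →ₐ[k] E :=
  IsFractionRing.liftAlgHom (algebraicIndependent_iff_injective_aeval.mp hv)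

theorem fldHom_X {σ : Type} {E : Type u} [Field E] [Algebra k E] (v : σ → E)
    (hv : AlgebraicIndependent k v) (i : σ) : fldHom v hv (InvFld.X i) = v i := by
  simp [fldHom, InvFld.X]

theorem fieldRange_eq_adjoin {σ : Type} {E : Type u} [Field E] [Algebra k E]
    (f : InvFld.Fld σ k →ₐ[k] E) :
    f.fieldRange = IntermediateField.adjoin k (Set.range fun i => f (InvFld.X i)) := by
  rw [AlgHom.fieldRange_eq_map, ← adjoin_X_eq_top, IntermediateField.adjoin_map, ← Set.range_comp]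
  rfl

theorem adjoin_inl_union_inr (n m : ℕ) :
    IntermediateField.adjoin k
      ((IntermediateField.adjoin k (Set.range fun j : Fin n =>
          (InvFld.X (Sum.inl j) : InvFld.Fld (Fin n ⊕ Fin m) k)) : Set _) ∪
        Set.range fun j : Fin m => (InvFld.X (Sum.inr j) : InvFld.Fld (Fin n ⊕ Fin m) k)) = ⊤ := by
  rw [eq_top_iff, ← adjoin_X_eq_top, IntermediateField.adjoin_le_iff]
  rintro _ ⟨(i | i), rfl⟩
  · exact subset_adjoin k _ (Or.inl (subset_adjoin k _ ⟨i, rfl⟩))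
  · exact subset_adjoin k _ (Or.inr ⟨i, rfl⟩)

theorem indep_right_over_left {α β : Type} :
    AlgebraicIndependent ↥(IntermediateField.adjoin k (Set.range fun j : α =>
        (InvFld.X (Sum.inl j) : InvFld.Fld (α ⊕ β) k)))
      (fun j : β => (InvFld.X (Sum.inr j) : InvFld.Fld (α ⊕ β) k)) := by
  refine IntermediateField.algebraicIndependent_adjoin_iff.mpr ?_
  refine (AlgebraicIndependent.sumElim_iff.mp ?_).2
  have h := (algebraicIndependent_X (k := k) (α ⊕ β)).comp _ (Equiv.sumComm β α).injective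
  convert h using 1
  funext s
  rcases s with s | s <;> rfl

/-- Common form of the two halves of stable equivalence. -/
theorem exists_equiv_fixedField {n m : ℕ} {L : Type u} [Field L] [Algebra k L]
    (ι : InvFld.Fld (Fin n) k →ₐ[k] L) (y : Fin m → L)
    (hy : AlgebraicIndependent ι.fieldRange y)
    (htop : IntermediateField.adjoin k ((ι.fieldRange : Set L) ∪ Set.range y) = ⊤)
    (GW : Subgroup (L ≃ₐ[k] L)) [Finite GW]
    (G : Subgroup (InvFld.Fld (Fin n) k ≃ₐ[k] InvFld.Fld (Fin n) k))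
    (ψ : G ≃* GW) (hψ : ∀ (σ : G) z, (ψ σ : L ≃ₐ[k] L) (ι z) = ι ((σ : InvFld.Fld (Fin n) k ≃ₐ[k] InvFld.Fld (Fin n) k) z))
    (hyG : ∀ τ ∈ GW, ∀ j, τ (y j) ∈ Submodule.span ι.fieldRange (Set.range y)) :
    Nonempty (InvFld.Fld (Fin m) (fixedField G) ≃ₐ[k] ↥(fixedField GW)) := by
  let f : ↥(fixedField G) →ₐ[k] L := ι.comp (fixedField G).val
  letI : Algebra ↥(fixedField G) L := f.toRingHom.toAlgebra
  haveI : IsScalarTower k ↥(fixedField G) L :=
    IsScalarTower.of_algebraMap_eq fun r => (f.commutes r).symm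
  have hinj : Function.Injective ι := ι.toRingHom.injective
  have hK : ∀ τ ∈ GW, ∀ a ∈ ι.fieldRange, τ a ∈ ι.fieldRange := by
    intro τ hτ a ha
    obtain ⟨z, rfl⟩ := ha
    obtain ⟨σ, hσ⟩ := ψ.surjective ⟨τ, hτ⟩
    refine ⟨(σ : InvFld.Fld (Fin n) k ≃ₐ[k] InvFld.Fld (Fin n) k) z, (hψ σ z).symm.trans ?_⟩
    rw [hσ]
    rfl
  have hfaith : ∀ τ ∈ GW, (∀ a ∈ ι.fieldRange, τ a = a) → τ = 1 := by
    intro τ hτ h
    obtain ⟨σ, hσ⟩ := ψ.surjective ⟨τ, hτ⟩
    have h1 : σ = 1 := Subtype.ext (AlgEquiv.ext fun z => hinj (by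
      rw [← hψ σ z, hσ]
      exact h _ ⟨z, rfl⟩))
    rw [h1, map_one] at hσ
    exact (congrArg Subtype.val hσ).symm
  have hF : Set.range (algebraMap ↥(fixedField G) L) =
      (ι.fieldRange : Set L) ∩ (fixedField GW : Set L) := by
    ext a
    constructor
    · rintro ⟨z, rfl⟩
      refine ⟨⟨(z : InvFld.Fld (Fin n) k), rfl⟩, (mem_fixedField_iff _ _).mpr fun τ hτ => ?_⟩
      obtain ⟨σ, hσ⟩ := ψ.surjective ⟨τ, hτ⟩
      change τ (ι (z : InvFld.Fld (Fin n) k)) = ι (z : InvFld.Fld (Fin n) k)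
      have h := hψ σ (z : InvFld.Fld (Fin n) k)
      rw [hσ] at h
      rw [h, (mem_fixedField_iff _ _).mp z.2 _ σ.2]
    · rintro ⟨⟨z, rfl⟩, ha⟩
      refine ⟨⟨z, (mem_fixedField_iff _ _).mpr fun σ hσ => hinj ?_⟩, rfl⟩
      rw [← hψ ⟨σ, hσ⟩]
      exact (mem_fixedField_iff _ _).mp ha _ (ψ ⟨σ, hσ⟩).2
  obtain ⟨t, ht, htfix⟩ := exists_invariant_generators ι.fieldRange GW hK hfaith y hy hyG htop
    ↥(fixedField G) hF
  have he : (IntermediateField.adjoin ↥(fixedField G) (Set.range t)).restrictScalars k = fixedField GW :=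
    SetLike.coe_injective htfix
  exact ⟨(ht.aevalEquivField.restrictScalars k).trans (IntermediateField.equivOfEq he)⟩

/-- Fields of invariants of two faithful linear representations of one finite group are stably
equivalent. -/
theorem stably_equivalent {n m : ℕ}
    (G : Subgroup (InvFld.Fld (Fin n) k ≃ₐ[k] InvFld.Fld (Fin n) k)) [Finite G]
    (H : Subgroup (InvFld.Fld (Fin m) k ≃ₐ[k] InvFld.Fld (Fin m) k)) (e : G ≃* H)
    (hG : ∀ σ ∈ G, ∀ i, σ (InvFld.X i) ∈ Submodule.span k (Set.range fun j : Fin n => (InvFld.X j : InvFld.Fld (Fin n) k)))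
    (hH : ∀ τ ∈ H, ∀ i, τ (InvFld.X i) ∈ Submodule.span k (Set.range fun j : Fin m => (InvFld.X j : InvFld.Fld (Fin m) k))) :
    Nonempty (InvFld.Fld (Fin m) (fixedField G) ≃ₐ[k] InvFld.Fld (Fin n) (fixedField H)) := by
  classical
  let L := InvFld.Fld (Fin n ⊕ Fin m) k
  have hX := algebraicIndependent_X (k := k) (Fin n ⊕ Fin m)
  let ι₁ : InvFld.Fld (Fin n) k →ₐ[k] L :=
    fldHom (fun i => InvFld.X (Sum.inl i)) (hX.comp _ Sum.inl_injective)
  let ι₂ : InvFld.Fld (Fin m) k →ₐ[k] L :=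
    fldHom (fun i => InvFld.X (Sum.inr i)) (hX.comp _ Sum.inr_injective)
  have hι₁ : ∀ i, ι₁ (InvFld.X i) = InvFld.X (Sum.inl i) := fldHom_X _ _
  have hι₂ : ∀ i, ι₂ (InvFld.X i) = InvFld.X (Sum.inr i) := fldHom_X _ _
  have lin₁ : ∀ z ∈ Submodule.span k (Set.range fun j : Fin n => (InvFld.X j : InvFld.Fld (Fin n) k)),
      ι₁ z ∈ Submodule.span k (Set.range fun j : Fin n => (InvFld.X (Sum.inl j) : L)) := by
    intro z hz
    have h := Submodule.mem_map_of_mem (f := ι₁.toLinearMap) hz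
    rw [Submodule.map_span, ← Set.range_comp] at h
    refine Submodule.span_mono ?_ h
    rintro _ ⟨j, rfl⟩
    exact ⟨j, (hι₁ j).symm⟩
  have lin₂ : ∀ z ∈ Submodule.span k (Set.range fun j : Fin m => (InvFld.X j : InvFld.Fld (Fin m) k)),
      ι₂ z ∈ Submodule.span k (Set.range fun j : Fin m => (InvFld.X (Sum.inr j) : L)) := by
    intro z hz
    have h := Submodule.mem_map_of_mem (f := ι₂.toLinearMap) hz
    rw [Submodule.map_span, ← Set.range_comp] at h
    refine Submodule.span_mono ?_ h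
    rintro _ ⟨j, rfl⟩
    exact ⟨j, (hι₂ j).symm⟩
  let v : G → Fin n ⊕ Fin m → L := fun σ => Sum.elim
    (fun i => ι₁ ((σ : InvFld.Fld (Fin n) k ≃ₐ[k] InvFld.Fld (Fin n) k) (InvFld.X i))) (fun j => ι₂ ((e σ : InvFld.Fld (Fin m) k ≃ₐ[k] InvFld.Fld (Fin m) k) (InvFld.X j)))
  have hv : ∀ σ : G, AlgebraicIndependent k (v σ) := by
    intro σ
    refine algIndep_of_span hX ?_ ?_
    · rintro (i | j)
      · refine Submodule.span_mono ?_ (lin₁ _ (hG _ σ.2 i))
        exact Set.range_comp_subset_range Sum.inl (InvFld.X : _ → L)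
      · refine Submodule.span_mono ?_ (lin₂ _ (hH _ (e σ).2 j))
        exact Set.range_comp_subset_range Sum.inr (InvFld.X : _ → L)
    · rintro (i | j)
      · have h := Submodule.mem_map_of_mem
          (f := ι₁.toLinearMap ∘ₗ (σ : InvFld.Fld (Fin n) k ≃ₐ[k] InvFld.Fld (Fin n) k).toLinearMap) (hG _ (σ⁻¹).2 i)
        rw [Submodule.map_span, ← Set.range_comp, LinearMap.comp_apply, AlgHom.toLinearMap_apply,
          AlgEquiv.toLinearMap_apply, Subgroup.coe_inv] at h
        have hc : (σ : InvFld.Fld (Fin n) k ≃ₐ[k] InvFld.Fld (Fin n) k) ((σ : InvFld.Fld (Fin n) k ≃ₐ[k] InvFld.Fld (Fin n) k)⁻¹ (InvFld.X i)) =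
            InvFld.X i := (σ : InvFld.Fld (Fin n) k ≃ₐ[k] InvFld.Fld (Fin n) k).apply_symm_apply _
        rw [hc, hι₁] at h
        refine Submodule.span_mono ?_ h
        rintro _ ⟨l, rfl⟩
        exact ⟨Sum.inl l, rfl⟩
      · have h := Submodule.mem_map_of_mem
          (f := ι₂.toLinearMap ∘ₗ (e σ : InvFld.Fld (Fin m) k ≃ₐ[k] InvFld.Fld (Fin m) k).toLinearMap) (hH _ (e σ)⁻¹.2 j)
        rw [Submodule.map_span, ← Set.range_comp, LinearMap.comp_apply, AlgHom.toLinearMap_apply,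
          AlgEquiv.toLinearMap_apply, Subgroup.coe_inv] at h
        have hc : (e σ : InvFld.Fld (Fin m) k ≃ₐ[k] InvFld.Fld (Fin m) k) ((e σ : InvFld.Fld (Fin m) k ≃ₐ[k] InvFld.Fld (Fin m) k)⁻¹ (InvFld.X j)) =
            InvFld.X j := (e σ : InvFld.Fld (Fin m) k ≃ₐ[k] InvFld.Fld (Fin m) k).apply_symm_apply _
        rw [hc, hι₂] at h
        refine Submodule.span_mono ?_ h
        rintro _ ⟨l, rfl⟩
        exact ⟨Sum.inr l, rfl⟩
  let Φ : G → (L →ₐ[k] L) := fun σ => fldHom (v σ) (hv σ)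
  have hΦ₁ : ∀ σ : G, (Φ σ).comp ι₁ = ι₁.comp (σ : InvFld.Fld (Fin n) k ≃ₐ[k] InvFld.Fld (Fin n) k).toAlgHom := fun σ =>
    algHom_ext_X fun i => by
      rw [AlgHom.comp_apply, AlgHom.comp_apply, hι₁]
      exact fldHom_X _ _ _
  have hΦ₂ : ∀ σ : G, (Φ σ).comp ι₂ = ι₂.comp (e σ : InvFld.Fld (Fin m) k ≃ₐ[k] InvFld.Fld (Fin m) k).toAlgHom := fun σ =>
    algHom_ext_X fun i => by
      rw [AlgHom.comp_apply, AlgHom.comp_apply, hι₂]
      exact fldHom_X _ _ _
  have hmul : ∀ σ τ : G, Φ (σ * τ) = (Φ σ).comp (Φ τ) := fun σ τ => algHom_ext_X fun s => by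
    rw [AlgHom.comp_apply, fldHom_X, fldHom_X]
    rcases s with i | j
    · exact (AlgHom.congr_fun (hΦ₁ σ) _).symm
    · simp only [v, Sum.elim_inr, map_mul]
      exact (AlgHom.congr_fun (hΦ₂ σ) _).symm
  have hone : Φ 1 = AlgHom.id k L := algHom_ext_X fun s => by
    rw [fldHom_X]
    rcases s with i | j
    · exact hι₁ i
    · simp only [v, Sum.elim_inr, map_one]
      exact hι₂ j
  let Ψ : G →* (L ≃ₐ[k] L) :=
    { toFun := fun σ => AlgEquiv.ofAlgHom (Φ σ) (Φ σ⁻¹) (by rw [← hmul, mul_inv_cancel, hone])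
        (by rw [← hmul, inv_mul_cancel, hone])
      map_one' := AlgEquiv.ext fun z => AlgHom.congr_fun hone z
      map_mul' := fun σ τ => AlgEquiv.ext fun z => AlgHom.congr_fun (hmul σ τ) z }
  have hΨ₁ : ∀ (σ : G) z, Ψ σ (ι₁ z) = ι₁ ((σ : InvFld.Fld (Fin n) k ≃ₐ[k] InvFld.Fld (Fin n) k) z) := fun σ z => AlgHom.congr_fun (hΦ₁ σ) z
  have hΨ₂ : ∀ (σ : G) z, Ψ σ (ι₂ z) = ι₂ ((e σ : InvFld.Fld (Fin m) k ≃ₐ[k] InvFld.Fld (Fin m) k) z) := fun σ z => AlgHom.congr_fun (hΦ₂ σ) z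
  have hΨinj : Function.Injective Ψ := fun σ τ h => Subtype.ext (AlgEquiv.ext fun z =>
    ι₁.toRingHom.injective (show ι₁ _ = ι₁ _ by rw [← hΨ₁, ← hΨ₁, h]))
  haveI : Finite Ψ.range := Finite.of_surjective Ψ.rangeRestrict Ψ.rangeRestrict_surjective
  let ψ : G ≃* Ψ.range := MonoidHom.ofInjective hΨinj
  have hr₁ : ι₁.fieldRange = IntermediateField.adjoin k (Set.range fun j : Fin n => (InvFld.X (Sum.inl j) : L)) := by
    rw [fieldRange_eq_adjoin]; simp only [hι₁]
  have hr₂ : ι₂.fieldRange = IntermediateField.adjoin k (Set.range fun j : Fin m => (InvFld.X (Sum.inr j) : L)) := by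
    rw [fieldRange_eq_adjoin]; simp only [hι₂]
  obtain ⟨e₁⟩ := exists_equiv_fixedField ι₁ (fun j : Fin m => (InvFld.X (Sum.inr j) : L))
    (by rw [hr₁]; exact indep_right_over_left)
    (by rw [hr₁]; exact adjoin_inl_union_inr n m) Ψ.range G ψ hΨ₁
    (by
      rintro _ ⟨σ, rfl⟩ j
      rw [← hι₂, hΨ₂]
      exact Submodule.span_le_restrictScalars k ι₁.fieldRange _ (lin₂ _ (hH _ (e σ).2 j)))
  obtain ⟨e₂⟩ := exists_equiv_fixedField ι₂ (fun j : Fin n => (InvFld.X (Sum.inl j) : L))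
    (by
      rw [hr₂]
      refine IntermediateField.algebraicIndependent_adjoin_iff.mpr
        (AlgebraicIndependent.sumElim_iff.mp ?_).2
      convert hX using 1
      funext s
      rcases s with s | s <;> rfl)
    (by
      rw [hr₂, eq_top_iff, ← adjoin_X_eq_top, IntermediateField.adjoin_le_iff]
      rintro _ ⟨(i | i), rfl⟩
      · exact subset_adjoin k _ (Or.inr ⟨i, rfl⟩)
      · exact subset_adjoin k _ (Or.inl (subset_adjoin k _ ⟨i, rfl⟩))) Ψ.range H (e.symm.trans ψ)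
    (fun τ z => (hΨ₂ (e.symm τ) z).trans (by rw [e.apply_symm_apply]))
    (by
      rintro _ ⟨σ, rfl⟩ j
      rw [← hι₁, hΨ₁]
      exact Submodule.span_le_restrictScalars k ι₂.fieldRange _ (lin₁ _ (hG _ σ.2 j)))
  exact ⟨e₁.trans e₂.symm⟩

end Groth.Agent.InvFldLib
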